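import Groth.Agent.Lib.Smoothing.Insep.Coefficient
import Groth.Agent.Lib.SepField.Smooth
import Mathlib.RingTheory.Kaehler.JacobiZariski
import Mathlib.RingTheory.Artinian.Ring

/-!
# Coefficient fields of Artinian local algebras, almost compatible with the base field
-/

set_option autoImplicit false

universe u

open IsLocalRing KaehlerDifferential
open scoped TensorProduct

namespace Groth.Agent.ArtApprox4

/-- A module-finite coefficient field. -/
theorem finite_of_section {Λ K : Type u} [CommRing Λ] [IsArtinianRing Λ] [IsLocalRing Λ] [Field K] [Algebra K Λ]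
    (hsurj : Function.Surjective ((residue Λ).comp (algebraMap K Λ))) : Module.Finite K Λ := by
  have hnil : IsNilpotent (maximalIdeal Λ) := by
    rw [← jacobson_eq_maximalIdeal (⊥ : Ideal Λ) bot_ne_top]
    exact IsArtinianRing.isNilpotent_jacobson_bot
  obtain ⟨N, hN⟩ := hnil
  have key : ∀ j i, i + j = N → ((maximalIdeal Λ ^ i).restrictScalars K).FG := by
    intro j
    induction j with
    | zero =>
      intro i hi
      rw [add_zero] at hi
      rw [hi, hN, Ideal.zero_eq_bot, Submodule.restrictScalars_bot]
      exact Submodule.fg_bot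
    | succ j ih =>
      intro i hi
      classical
      obtain ⟨s, hs⟩ := (IsNoetherian.noetherian (maximalIdeal Λ ^ i) : (maximalIdeal Λ ^ i).FG)
      have heq : (maximalIdeal Λ ^ i).restrictScalars K =
          Submodule.span K (s : Set Λ) ⊔ (maximalIdeal Λ ^ (i + 1)).restrictScalars K := by
        refine le_antisymm (fun x hx => ?_) (sup_le ?_ ?_)
        · rw [Submodule.restrictScalars_mem, ← hs] at hx
          obtain ⟨c, -, rfl⟩ := Submodule.mem_span_finset.mp hx
          refine Submodule.sum_mem _ fun g hg => ?_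
          obtain ⟨κ, hκ⟩ := hsurj (residue Λ (c g))
          rw [show c g • g = κ • g + (c g - algebraMap K Λ κ) * g by
            rw [smul_eq_mul, Algebra.smul_def]; ring]
          refine Submodule.add_mem_sup (Submodule.smul_mem _ _ (Submodule.subset_span hg)) ?_
          rw [Submodule.restrictScalars_mem, pow_succ']
          refine Ideal.mul_mem_mul ?_ (hs ▸ Submodule.subset_span hg)
          rw [← residue_eq_zero_iff, map_sub]
          exact sub_eq_zero.mpr hκ.symm
        · rw [Submodule.span_le]
          intro g hg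
          show g ∈ maximalIdeal Λ ^ i
          rw [← hs]
          exact Submodule.subset_span hg
        · exact fun x hx => Ideal.pow_le_pow_right i.le_succ hx
      rw [heq]
      exact (Submodule.fg_span s.finite_toSet).sup (ih (i + 1) (by omega))
  have h := key N 0 (by omega)
  rw [pow_zero, Ideal.one_eq_top, Submodule.restrictScalars_top] at h
  exact ⟨h⟩

/-- A coefficient field `σ` such that the image of `k` is generated by high `p`-th powers, the image under
`σ` of a set of elements, and finitely many other elements. -/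
theorem exists_coefficient {k Λ : Type u} [Field k] (p : ℕ) [Fact p.Prime] [CharP k p] [CommRing Λ]
    [Algebra k Λ] [IsArtinianRing Λ] [IsLocalRing Λ]
    (hH : Module.Finite (ResidueField Λ) (Algebra.H1Cotangent k (ResidueField Λ))) :
    ∃ (σ : ResidueField Λ →+* Λ) (B₀ : Finset k), (∀ c, residue Λ (σ c) = c) ∧
      ∀ T : Subfield k,
        (∀ c : k, algebraMap k Λ c = σ (algebraMap k (ResidueField Λ) c) → c ∈ T) →
        (↑B₀ : Set k) ⊆ T → T = ⊤ := by
  classical
  let K := ResidueField Λ
  let F := GrothLib.SepField.PrimeFld.{u} p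
  haveI : CharP F p := charP_of_injective_ringHom
    (f := (ULift.ringEquiv.symm : ZMod p ≃+* F).toRingHom) ULift.ringEquiv.symm.injective p
  haveI : PerfectRing F p := PerfectRing.ofFiniteOfIsReduced p _
  haveI : ExpChar F p := ExpChar.prime Fact.out
  letI : Algebra F k := ((ZMod.castHom (dvd_refl p) k).comp ULift.ringEquiv.toRingHom).toAlgebra
  letI : Algebra F Λ := ((algebraMap k Λ).comp (algebraMap F k)).toAlgebra
  haveI : IsScalarTower F k Λ := IsScalarTower.of_algebraMap_eq fun _ => rfl
  haveI : IsScalarTower F k K := IsScalarTower.of_algebraMap_eq fun _ => rfl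
  haveI : CharP K p := charP_of_injective_algebraMap (algebraMap k K).injective p
  haveI : Algebra.FormallySmooth F K := GrothLib.SepField.formallySmooth_perfect p
  -- a differential basis of `k`
  obtain ⟨ι, a, ha, hsp, hli⟩ := exists_linearIndependent' k (D F k : k → Ω[k⁄F])
  have hsp' : Submodule.span k (Set.range ((D F k : k → Ω[k⁄F]) ∘ a)) = ⊤ := by
    rw [hsp, KaehlerDifferential.span_range_derivation]
  let bk : Module.Basis ι k Ω[k⁄F] := Module.Basis.mk hli hsp'.ge
  let bV := Algebra.TensorProduct.basis K bk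
  let f : K ⊗[k] Ω[k⁄F] →ₗ[K] Ω[K⁄F] := mapBaseChange F k K
  have hker : (LinearMap.ker f).FG := by
    rw [(Algebra.H1Cotangent.exact_δ_mapBaseChange F k K).linearMap_ker_eq]
    exact (Submodule.map_top (Algebra.H1Cotangent.δ F k K)) ▸ (hH.fg_top.map _)
  obtain ⟨gens, hgens⟩ := hker
  let t₀ : Finset ι := gens.biUnion fun g => (bV.repr g).support
  have hle : LinearMap.ker f ≤ Submodule.span K (bV '' (t₀ : Set ι)) := by
    rw [← hgens, Submodule.span_le]
    intro g hg
    refine bV.mem_span_image.mpr fun i hi => ?_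
    exact Finset.mem_biUnion.mpr ⟨g, hg, hi⟩
  have hind : LinearIndependent K fun i : ((t₀ : Set ι)ᶜ : Set ι) => f (bV i) := by
    refine (bV.linearIndependent.comp _ Subtype.val_injective).map ?_
    rw [show Set.range (bV ∘ (Subtype.val : ((t₀ : Set ι)ᶜ : Set ι) → ι)) = bV '' ((t₀ : Set ι)ᶜ) by
      rw [Set.range_comp, Subtype.range_coe]]
    exact Disjoint.mono_right hle (bV.linearIndependent.disjoint_span_image disjoint_compl_left)
  let s : Set k := a '' ((t₀ : Set ι)ᶜ)
  have hs : LinearIndependent K fun b : s => D F K (algebraMap k K b) := by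
    have hval : ∀ i : ((t₀ : Set ι)ᶜ : Set ι), f (bV i) = D F K (algebraMap k K (a i)) := fun i => by
      simp [f, bV, bk, KaehlerDifferential.mapBaseChange_tmul]
    let e : ((t₀ : Set ι)ᶜ : Set ι) ≃ s := Equiv.Set.image a _ ha
    rw [← linearIndependent_equiv e]
    simp only [hval] at hind
    exact hind
  let π : Λ →ₐ[k] K := IsScalarTower.toAlgHom k Λ K
  have hnil : IsNilpotent (RingHom.ker π.toRingHom) := by
    rw [show RingHom.ker π.toRingHom = maximalIdeal Λ from IsLocalRing.ker_residue,
      ← jacobson_eq_maximalIdeal (⊥ : Ideal Λ) bot_ne_top]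
    exact IsArtinianRing.isNilpotent_jacobson_bot
  obtain ⟨σ, hσ, hσs⟩ := Smoothing.Insep.exists_section π residue_surjective hnil s hs
  refine ⟨σ.toRingHom, t₀.image a, hσ, fun T hT hB₀ => ?_⟩
  obtain ⟨N, hN⟩ := hnil
  obtain ⟨e, he⟩ : ∃ e, N ≤ p ^ e := ⟨N, (Nat.lt_pow_self (Fact.out : p.Prime).one_lt).le⟩
  haveI : CharP Λ p := charP_of_injective_algebraMap (algebraMap k Λ).injective p
  refine Smoothing.Insep.subfield_eq_top (F := F) p (Set.range a) ?_ T ?_ e fun c => ?_
  · rw [← Set.range_comp]; exact hsp'
  · rintro _ ⟨i, rfl⟩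
    by_cases hi : i ∈ t₀
    · exact hB₀ (Finset.mem_coe.mpr (Finset.mem_image_of_mem a hi))
    · exact hT _ (hσs _ ⟨i, hi, rfl⟩).symm
  · refine hT _ ?_
    rw [map_pow, map_pow, map_pow, ← sub_eq_zero, ← sub_pow_char_pow]
    refine Submodule.mem_bot Λ |>.mp ?_
    rw [← Ideal.zero_eq_bot, ← hN]
    refine Ideal.pow_le_pow_right he (Ideal.pow_mem_pow ?_ _)
    show π (algebraMap k Λ c - σ (algebraMap k K c)) = 0
    rw [map_sub, π.commutes, hσ, sub_self]

end Groth.Agent.ArtApprox4
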