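import Groth.Agent.Lib.ArtApprox4.Coefficient
import Mathlib.RingTheory.EssentialFiniteness
import Mathlib.RingTheory.Flat.Basic
import Mathlib.LinearAlgebra.Basis.Submodule
import Mathlib.FieldTheory.IntermediateField.Adjoin.Defs

/-!
# Artinian local algebras are directed unions of essentially finite type ones
-/

set_option autoImplicit false

universe u

open IsLocalRing

namespace Groth.Agent.ArtApprox4

theorem eq_top_of_nilpotent {R M : Type*} [CommRing R] [AddCommGroup M] [Module R M] (I : Ideal R)
    {n : ℕ} (hn : I ^ n = ⊥) (S : Submodule R M) (h : ∀ z : M, z ∈ S ⊔ I • (⊤ : Submodule R M)) : S = ⊤ := by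
  have key : ∀ j, (⊤ : Submodule R M) ≤ S ⊔ I ^ j • ⊤ := by
    intro j
    induction j with
    | zero => rw [pow_zero, Ideal.one_eq_top, Submodule.top_smul]; exact le_sup_right
    | succ j ih =>
      refine ih.trans (sup_le le_sup_left ?_)
      calc I ^ j • (⊤ : Submodule R M) ≤ I ^ j • (S ⊔ I • ⊤) := Submodule.smul_mono le_rfl fun z _ => h z
        _ = I ^ j • S ⊔ I ^ (j + 1) • ⊤ := by rw [Submodule.smul_sup, ← Submodule.mul_smul, ← pow_succ]
        _ ≤ S ⊔ I ^ (j + 1) • ⊤ := sup_le_sup_right Submodule.smul_le_right _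
  have := key n
  rw [hn, Submodule.bot_smul, sup_bot_eq] at this
  exact top_le_iff.1 this

theorem exists_subalgebra {k Λ : Type u} [Field k] [CommRing Λ] [Algebra k Λ] [IsArtinianRing Λ]
    [IsLocalRing Λ] (σ : ResidueField Λ →+* Λ) (hσ : ∀ c, residue Λ (σ c) = c) (B₀ : Finset k)
    (hk : ∀ T : Subfield k,
        (∀ c : k, algebraMap k Λ c = σ (algebraMap k (ResidueField Λ) c) → c ∈ T) →
        (↑B₀ : Set k) ⊆ T → T = ⊤) (E : Finset Λ) :
    ∃ (A : Subalgebra k Λ) (_ : IsLocalRing A), (↑E : Set Λ) ⊆ A ∧ IsArtinianRing A ∧ Module.Flat A Λ ∧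
      Algebra.EssFiniteType k A ∧
      (maximalIdeal A).map (algebraMap A Λ) = maximalIdeal Λ := by
  classical
  let K := ResidueField Λ
  letI : Algebra K Λ := σ.toAlgebra
  have hsmul : ∀ (c : K) (z : Λ), c • z = σ c * z := fun c z => rfl
  haveI : Module.Finite K Λ := finite_of_section fun c => ⟨c, hσ c⟩
  -- a basis adapted to the residue map
  let mK : Submodule K Λ := (maximalIdeal Λ).restrictScalars K
  let bm := Module.finBasis K mK
  let n := Module.finrank K mK
  let v : Option (Fin n) → Λ := fun o => o.elim 1 fun i => (bm i : Λ)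
  have hπm : ∀ i, residue Λ (bm i : Λ) = 0 := fun i => (residue_eq_zero_iff _).mpr (bm i).2
  have hli : LinearIndependent K v := by
    refine Fintype.linearIndependent_iff.mpr fun g hg => ?_
    rw [Fintype.sum_option] at hg
    have h0 : g none = 0 := by
      have := congrArg (residue Λ) hg
      simpa [v, hsmul, hσ, hπm] using this
    rw [h0, zero_smul, zero_add] at hg
    have h1 : ∑ i, g (some i) • bm i = 0 := Subtype.ext (by simpa [v] using hg)
    exact fun o => o.rec h0 fun i => Fintype.linearIndependent_iff.mp bm.linearIndependent _ h1 i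
  have hsp : ⊤ ≤ Submodule.span K (Set.range v) := by
    intro z _
    have hm : z - residue Λ z • (1 : Λ) ∈ mK := by
      show z - residue Λ z • (1 : Λ) ∈ maximalIdeal Λ
      rw [← residue_eq_zero_iff, map_sub, hsmul, map_mul, hσ, map_one, mul_one, sub_self]
    have hz : z = residue Λ z • (1 : Λ) + ∑ i, bm.repr ⟨_, hm⟩ i • (bm i : Λ) := by
      have := congrArg Subtype.val (bm.sum_repr ⟨_, hm⟩)
      simp only [Submodule.coe_sum, Submodule.coe_smul] at this
      rw [this]; abel
    rw [hz]
    exact add_mem (Submodule.smul_mem _ _ (Submodule.subset_span ⟨none, rfl⟩))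
      (Submodule.sum_mem _ fun i _ => Submodule.smul_mem _ _ (Submodule.subset_span ⟨some i, rfl⟩))
  let b := Module.Basis.mk hli hsp
  have hbv : ∀ o, b o = v o := fun o => Module.Basis.mk_apply hli hsp o
  have hrepr0 : ∀ z, b.repr z none = residue Λ z := fun z => by
    have h := congrArg (residue Λ) (b.sum_repr z)
    rw [Fintype.sum_option, map_add, map_sum] at h
    simpa [hbv, v, hsmul, hσ, hπm] using h
  -- the coefficient field of `A`
  let coords : Λ → Finset K := fun z => Finset.univ.image fun i => b.repr z i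
  let Fs : Finset K :=
    (Finset.univ.biUnion fun ij : Option (Fin n) × Option (Fin n) => coords (b ij.1 * b ij.2)) ∪
      E.biUnion coords ∪ B₀.biUnion fun c => coords (algebraMap k Λ c)
  let K₀ := IntermediateField.adjoin k (Fs : Set K)
  have hFs : ∀ c ∈ Fs, c ∈ K₀ := fun c hc => IntermediateField.subset_adjoin k _ hc
  let P : Λ → Prop := fun z => ∀ i, b.repr z i ∈ K₀
  have hPE : ∀ z ∈ E, P z := fun z hz i => hFs _ (Finset.mem_union_left _
    (Finset.mem_union_right _ (Finset.mem_biUnion.mpr ⟨z, hz, Finset.mem_image_of_mem _ (Finset.mem_univ i)⟩)))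
  have hPB : ∀ c ∈ B₀, P (algebraMap k Λ c) := fun c hc i => hFs _ (Finset.mem_union_right _
    (Finset.mem_biUnion.mpr ⟨c, hc, Finset.mem_image_of_mem _ (Finset.mem_univ i)⟩))
  have hPbb : ∀ i j, P (b i * b j) := fun i j l => hFs _ (Finset.mem_union_left _
    (Finset.mem_union_left _ (Finset.mem_biUnion.mpr ⟨(i, j), Finset.mem_univ _,
      Finset.mem_image_of_mem _ (Finset.mem_univ l)⟩)))
  have hPadd : ∀ z w, P z → P w → P (z + w) := fun z w hz hw i => by
    rw [map_add, Finsupp.add_apply]; exact add_mem (hz i) (hw i)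
  have hPzero : P 0 := fun i => by rw [map_zero]; exact zero_mem K₀
  have hPsmul : ∀ (c : K) z, c ∈ K₀ → P z → P (c • z) := fun c z hc hz i => by
    rw [map_smul, Finsupp.smul_apply, smul_eq_mul]; exact mul_mem hc (hz i)
  have hPsum : ∀ {ι' : Type} (t : Finset ι') (g : ι' → Λ), (∀ x ∈ t, P (g x)) → P (∑ x ∈ t, g x) :=
    fun t g h => Finset.sum_induction g P hPadd hPzero h
  have hPb : ∀ j, P (b j) := fun j i => by
    rw [b.repr_self, Finsupp.single_apply]; split <;> simp
  have hP1 : P 1 := by have := hPb none; rwa [hbv] at this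
  have hPmul : ∀ z w, P z → P w → P (z * w) := fun z w hz hw => by
    rw [← b.sum_repr z, ← b.sum_repr w, Finset.sum_mul_sum]
    refine hPsum _ _ fun i _ => hPsum _ _ fun j _ => ?_
    rw [smul_mul_smul_comm]
    exact hPsmul _ _ (mul_mem (hz i) (hw j)) (hPbb i j)
  have hPσ : ∀ c ∈ K₀, P (σ c) := fun c hc => by
    have := hPsmul c 1 hc hP1
    rwa [hsmul, mul_one] at this
  have hPπ : ∀ z, P z → residue Λ z ∈ K₀ := fun z hz => hrepr0 z ▸ hz none
  have hPneg : ∀ z, P z → P (-z) := fun z hz i => by
    rw [map_neg, Finsupp.neg_apply]; exact neg_mem (hz i)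
  have hnil : IsNilpotent (maximalIdeal Λ) := by
    rw [← jacobson_eq_maximalIdeal (⊥ : Ideal Λ) bot_ne_top]
    exact IsArtinianRing.isNilpotent_jacobson_bot
  obtain ⟨N, hN⟩ := hnil
  have hPinv : ∀ z w, P z → residue Λ z ≠ 0 → z * w = 1 → P w := fun z w hz hne hzw => by
    let d := (residue Λ z)⁻¹
    let y := 1 - σ d * z
    have hy : residue Λ y = 0 := by
      rw [map_sub, map_one, map_mul, hσ, inv_mul_cancel₀ hne, sub_self]
    have hyN : y ^ N = 0 := by
      have := Ideal.pow_mem_pow ((residue_eq_zero_iff y).mp hy) N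
      rw [hN] at this; simpa using this
    have hd : d ∈ K₀ := inv_mem (hPπ z hz)
    have hPy : P y := by
      show P (1 - σ d * z)
      rw [sub_eq_add_neg]
      exact hPadd _ _ hP1 (hPneg _ (hPmul _ _ (hPσ d hd) hz))
    have hPpow : ∀ i : ℕ, P (y ^ i) := by
      intro i
      induction i with
      | zero => rw [pow_zero]; exact hP1
      | succ i ih => rw [pow_succ]; exact hPmul _ _ ih hPy
    have hw : w = σ d * ∑ i ∈ Finset.range N, y ^ i := by
      have h1 := mul_neg_geom_sum y N
      rw [hyN, sub_zero, show (1 : Λ) - y = σ d * z by simp [y]] at h1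
      calc w = w * (σ d * z * ∑ i ∈ Finset.range N, y ^ i) := by rw [h1, mul_one]
        _ = (z * w) * (σ d * ∑ i ∈ Finset.range N, y ^ i) := by ring
        _ = _ := by rw [hzw, one_mul]
    rw [hw]
    exact hPmul _ _ (hPσ d hd) (hPsum _ _ fun i _ => hPpow i)
  have hPk : ∀ c : k, P (algebraMap k Λ c) := by
    let T : Subfield k :=
      { carrier := {c | P (algebraMap k Λ c)}
        mul_mem' := fun {x y} hx hy => by simpa using hPmul _ _ hx hy
        one_mem' := by simpa using hP1
        add_mem' := fun {x y} hx hy => by simpa using hPadd _ _ hx hy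
        zero_mem' := by simpa using hPzero
        neg_mem' := fun {x} hx => by simpa using hPneg _ hx
        inv_mem' := fun x hx => by
          by_cases h0 : x = 0
          · simpa [h0] using hPzero
          · refine hPinv _ _ hx ?_ (by rw [← map_mul, mul_inv_cancel₀ h0, map_one])
            rw [← ResidueField.algebraMap_eq, ← IsScalarTower.algebraMap_apply]
            exact (map_ne_zero _).mpr h0 }
    have := hk T (fun c hc => by
      show P (algebraMap k Λ c)
      rw [hc]; exact hPσ _ (K₀.algebraMap_mem c)) hPB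
    exact fun c => (this ▸ Subfield.mem_top c : c ∈ T)
  let A : Subalgebra k Λ :=
    { carrier := {z | P z}
      mul_mem' := fun {z w} hz hw => hPmul z w hz hw
      add_mem' := fun {z w} hz hw => hPadd z w hz hw
      algebraMap_mem' := hPk }
  haveI : Nontrivial A := nontrivial_of_ne 0 1 fun h => zero_ne_one (congrArg Subtype.val h)
  have hunit : ∀ z : A, residue Λ (z : Λ) ≠ 0 → IsUnit z := fun z hz => by
    obtain ⟨w, hw⟩ := ((residue_ne_zero_iff_isUnit (z : Λ)).mp hz).exists_right_inv
    exact IsUnit.of_mul_eq_one (⟨w, hPinv _ w z.2 hz hw⟩ : A) (Subtype.ext hw)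
  haveI hloc : IsLocalRing A := IsLocalRing.of_isUnit_or_isUnit_one_sub_self fun z => by
    by_cases h : residue Λ (z : Λ) = 0
    · refine .inr (hunit _ ?_)
      show residue Λ (1 - (z : Λ)) ≠ 0
      rw [map_sub, map_one, h, sub_zero]
      exact one_ne_zero
    · exact .inl (hunit _ h)
  have hmax : ∀ z : A, z ∈ maximalIdeal A ↔ residue Λ (z : Λ) = 0 := fun z => by
    refine ⟨fun hz => by_contra fun h => hz (hunit z h), fun h hu => ?_⟩
    exact (residue_ne_zero_iff_isUnit (z : Λ)).mpr (hu.map A.val) h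
  -- `A` as a `K₀`-algebra
  let bA : Option (Fin n) → A := fun i => ⟨b i, hPb i⟩
  letI : Algebra K₀ A := ((σ.comp K₀.toSubfield.subtype).codRestrict A fun c => hPσ c c.2).toAlgebra
  have hAsum : ∀ (z : A), ∑ i, (⟨b.repr (z : Λ) i, z.2 i⟩ : K₀) • bA i = z := fun z => by
    refine Subtype.ext ?_
    rw [show ((∑ i, (⟨b.repr (z : Λ) i, z.2 i⟩ : K₀) • bA i : A) : Λ) =
      A.val (∑ i, (⟨b.repr (z : Λ) i, z.2 i⟩ : K₀) • bA i) from rfl, map_sum]
    exact b.sum_repr (z : Λ)
  haveI : Module.Finite K₀ A :=
    Module.Finite.of_surjective (Fintype.linearCombination K₀ bA) fun z =>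
      ⟨_, (Fintype.linearCombination_apply K₀ bA _).trans (hAsum z)⟩
  refine ⟨A, hloc, hPE, IsArtinianRing.of_finite K₀ A, ?_, ?_, ?_⟩
  · -- freeness
    let bK := Module.Free.chooseBasis K₀ K
    let w : Module.Free.ChooseBasisIndex K₀ K → Λ := fun j => σ (bK j)
    have hwsmul : ∀ (a : A) j, a • w j = bK j • (a : Λ) := fun a j => mul_comm (a : Λ) (σ (bK j))
    have hliw : LinearIndependent A w := by
      rw [linearIndependent_iff']
      intro t g hg
      have h : ∀ i, ∀ j ∈ t, (⟨b.repr (g j : Λ) i, (g j).2 i⟩ : K₀) = 0 := fun i => by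
        refine linearIndependent_iff'.mp bK.linearIndependent t _ ?_
        have := congrArg (fun z => b.repr z i) hg
        simp only [hwsmul, map_sum, map_smul, Finsupp.finset_sum_apply, Finsupp.smul_apply, map_zero,
          Finsupp.zero_apply, smul_eq_mul] at this
        rw [← this]
        refine Finset.sum_congr rfl fun j _ => ?_
        exact mul_comm (b.repr (g j : Λ) i) (bK j)
      intro j hj
      refine Subtype.ext (b.repr.injective ?_)
      ext i
      simpa using congrArg Subtype.val (h i j hj)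
    have hspw : ⊤ ≤ Submodule.span A (Set.range w) := by
      intro z _
      rw [← b.sum_repr z]
      refine Submodule.sum_mem _ fun i _ => ?_
      have hr : b.repr z i ∈ Submodule.span K₀ (Set.range bK) := bK.span_eq ▸ Submodule.mem_top
      generalize b.repr z i = r at hr
      induction hr using Submodule.span_induction with
      | mem x hx =>
        obtain ⟨j, rfl⟩ := hx
        rw [show bK j • b i = bA i • w j from (hwsmul (bA i) j).symm]
        exact Submodule.smul_mem _ _ (Submodule.subset_span ⟨j, rfl⟩)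
      | zero => rw [zero_smul]; exact zero_mem _
      | add x y _ _ hx hy => rw [add_smul]; exact add_mem hx hy
      | smul c x _ hx =>
        rw [show (c • x) • b i = (⟨σ c, hPσ c c.2⟩ : A) • (x • b i) by
          show σ ((c : K) * x) * b i = σ c * (σ x * b i)
          rw [map_mul, mul_assoc]]
        exact Submodule.smul_mem _ _ hx
    haveI : Module.Free A Λ := Module.Free.of_basis (Module.Basis.mk hliw hspw)
    infer_instance
  · -- essentially of finite type
    let T : Finset A := (Fs.attach.image fun c => (⟨σ c.1, hPσ _ (hFs _ c.2)⟩ : A)) ∪ Finset.univ.image bA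
    let A' := Algebra.adjoin k (T : Set A)
    let U : Subalgebra k A :=
      { carrier := {a | ∃ t ∈ A', IsUnit t ∧ a * t ∈ A'}
        mul_mem' := by
          rintro x y ⟨t, ht, hu, hx⟩ ⟨t', ht', hu', hy⟩
          refine ⟨t * t', mul_mem ht ht', hu.mul hu', ?_⟩
          rw [mul_mul_mul_comm]; exact mul_mem hx hy
        add_mem' := by
          rintro x y ⟨t, ht, hu, hx⟩ ⟨t', ht', hu', hy⟩
          refine ⟨t * t', mul_mem ht ht', hu.mul hu', ?_⟩
          rw [show (x + y) * (t * t') = x * t * t' + y * t' * t by ring]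
          exact add_mem (mul_mem hx ht') (mul_mem hy ht)
        algebraMap_mem' := fun c => ⟨1, one_mem _, isUnit_one, by rw [mul_one]; exact A'.algebraMap_mem c⟩ }
    have hTU : ∀ x ∈ A', x ∈ U := fun x hx => ⟨1, one_mem _, isUnit_one, by rwa [mul_one]⟩
    let W : IntermediateField k K :=
      { carrier := {c | ∃ u ∈ U, residue Λ (u : Λ) = c}
        mul_mem' := by
          rintro _ _ ⟨u, hu, rfl⟩ ⟨u', hu', rfl⟩
          exact ⟨u * u', mul_mem hu hu', map_mul (residue Λ) _ _⟩
        add_mem' := by
          rintro _ _ ⟨u, hu, rfl⟩ ⟨u', hu', rfl⟩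
          exact ⟨u + u', add_mem hu hu', map_add (residue Λ) _ _⟩
        algebraMap_mem' := fun c => ⟨algebraMap k A c, U.algebraMap_mem c, rfl⟩
        inv_mem' := by
          rintro _ ⟨u, ⟨t, ht, htu, hut⟩, rfl⟩
          by_cases h0 : residue Λ (u : Λ) = 0
          · exact ⟨0, zero_mem _, by rw [h0, inv_zero]; exact map_zero (residue Λ)⟩
          · have huu := hunit u h0
            refine ⟨↑huu.unit⁻¹, ⟨u * t, hut, huu.mul htu, ?_⟩, ?_⟩
            · rw [← mul_assoc, IsUnit.val_inv_mul, one_mul]; exact ht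
            · have h1 : residue Λ ((↑huu.unit⁻¹ : A) : Λ) * residue Λ (u : Λ) = 1 := by
                rw [← map_mul, ← Subalgebra.coe_mul, IsUnit.val_inv_mul]
                exact map_one (residue Λ)
              exact eq_inv_of_mul_eq_one_left h1 }
    have hW : ∀ c ∈ K₀, ∃ u ∈ U, residue Λ (u : Λ) = c := fun c hc => by
      have hle : K₀ ≤ W := IntermediateField.adjoin_le_iff.mpr fun c hc =>
        ⟨⟨σ c, hPσ _ (hFs _ hc)⟩, hTU _ (Algebra.subset_adjoin (Finset.mem_coe.mpr (Finset.mem_union_left _
          (Finset.mem_image.mpr ⟨⟨c, hc⟩, Finset.mem_attach _ _, rfl⟩)))), hσ c⟩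
      exact hle hc
    have hbU : ∀ i, bA i ∈ U := fun i => hTU _ (Algebra.subset_adjoin (Finset.mem_coe.mpr
      (Finset.mem_union_right _ (Finset.mem_image_of_mem _ (Finset.mem_univ i)))))
    let J : Ideal U := Ideal.span (Set.range fun i : Fin n => (⟨bA (some i), hbU _⟩ : U))
    have hJ : J ^ N = ⊥ := by
      let g : U →+* Λ := A.val.toRingHom.comp U.val.toRingHom
      have hg : Function.Injective g := fun x y h => Subtype.ext (Subtype.ext h)
      have hJm : J.map g ≤ maximalIdeal Λ := by
        rw [Ideal.map_span, Ideal.span_le]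
        rintro _ ⟨_, ⟨i, rfl⟩, rfl⟩
        show b (some i) ∈ maximalIdeal Λ
        rw [hbv]; exact (bm i).2
      refine (Ideal.map_eq_bot_iff_of_injective hg).mp ?_
      rw [Ideal.map_pow]
      exact le_bot_iff.mp ((Ideal.pow_right_mono hJm N).trans (by rw [hN]; exact le_rfl))
    have htop : Submodule.span U ({1} : Set A) = ⊤ := by
      refine eq_top_of_nilpotent J hJ _ fun z => ?_
      obtain ⟨u, hu, hπu⟩ := hW _ (hPπ _ z.2)
      have hd : residue Λ ((z - u : A) : Λ) = 0 := by
        show residue Λ ((z : Λ) - (u : Λ)) = 0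
        rw [map_sub, hπu, sub_self]
      rw [← add_sub_cancel u z]
      refine Submodule.add_mem_sup (Submodule.mem_span_singleton.mpr ⟨⟨u, hu⟩, mul_one u⟩) ?_
      rw [← hAsum (z - u)]
      refine Submodule.sum_mem _ fun i _ => ?_
      cases i with
      | none =>
        have h0 : (⟨b.repr ((z - u : A) : Λ) none, (z - u).2 none⟩ : K₀) = 0 :=
          Subtype.ext ((hrepr0 _).trans hd)
        rw [h0, zero_smul]; exact zero_mem _
      | some i =>
        rw [show (⟨b.repr ((z - u : A) : Λ) (some i), (z - u).2 (some i)⟩ : K₀) • bA (some i) =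
          (⟨bA (some i), hbU _⟩ : U) •
            (algebraMap K₀ A ⟨b.repr ((z - u : A) : Λ) (some i), (z - u).2 (some i)⟩) from
          (Algebra.smul_def _ _).trans (mul_comm _ _)]
        exact Submodule.smul_mem_smul (Ideal.subset_span ⟨i, rfl⟩) Submodule.mem_top
    refine (Algebra.essFiniteType_iff k A).mpr ⟨T, fun s => ?_⟩
    obtain ⟨u, rfl⟩ := Submodule.mem_span_singleton.mp
      (show s ∈ Submodule.span U ({1} : Set A) from htop ▸ Submodule.mem_top)
    obtain ⟨t, ht, htu, hut⟩ := u.2
    exact ⟨t, ht, htu, by rwa [Subalgebra.smul_def, smul_eq_mul, mul_one]⟩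
  · -- the maximal ideal
    refine le_antisymm (Ideal.map_le_iff_le_comap.mpr fun z hz => (residue_eq_zero_iff _).mp ((hmax z).mp hz)) ?_
    intro z hz
    rw [← b.sum_repr z, Fintype.sum_option, hrepr0, (residue_eq_zero_iff z).mpr hz, zero_smul, zero_add]
    refine Submodule.sum_mem _ fun i _ => ?_
    rw [hsmul]
    refine Ideal.mul_mem_left _ _ (Ideal.mem_map_of_mem (algebraMap A Λ) (x := bA (some i)) ((hmax _).mpr ?_))
    show residue Λ (b (some i)) = 0
    rw [hbv]; exact hπm i

end Groth.Agent.ArtApprox4
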